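import Cfsg.Agent.H55.HM.ConfCoord

/-!
# S5175, T9: `StTyp` (helper55)
-/

set_option autoImplicit false

namespace Cfsg.Agent.H55.HM

open Cfsg Cfsg.FusionSystem Cfsg.Agent.H756.HM Cfsg.Agent.H802
open Matrix

variable {Ω : Type*} [Group Ω] {S : Subgroup Ω}

theorem sl_upper {K : Type*} [Field K] {M : Matrix.SpecialLinearGroup (Fin 2) K}
    (h00 : (M : Matrix (Fin 2) (Fin 2) K) 0 0 = 1) (h10 : (M : Matrix (Fin 2) (Fin 2) K) 1 0 = 0) :
    (M : Matrix (Fin 2) (Fin 2) K) 1 1 = 1 := by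
  have hdet := M.2
  rw [Matrix.det_fin_two] at hdet
  have : (M : Matrix (Fin 2) (Fin 2) K) 0 0 * (M : Matrix (Fin 2) (Fin 2) K) 1 1 -
    (M : Matrix (Fin 2) (Fin 2) K) 0 1 * (M : Matrix (Fin 2) (Fin 2) K) 1 0 = 1 := hdet
  rw [h00, h10] at this
  simpa using this

theorem sl_upper_eq_one {K : Type*} [Field K] {M : Matrix.SpecialLinearGroup (Fin 2) K}
    (h00 : (M : Matrix (Fin 2) (Fin 2) K) 0 0 = 1) (h10 : (M : Matrix (Fin 2) (Fin 2) K) 1 0 = 0)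
    (h01 : (M : Matrix (Fin 2) (Fin 2) K) 0 1 = 0) : M = 1 := by
  have h11 := sl_upper h00 h10
  ext i j
  fin_cases i <;> fin_cases j
  · exact h00
  · exact h01
  · exact h10
  · exact h11

/-- the diagonal matrix -/
def dg {K : Type*} [Field K] (t : K) (ht : t ≠ 0) : Matrix.SpecialLinearGroup (Fin 2) K :=
  ⟨!![t, 0; 0, t⁻¹], by rw [Matrix.det_fin_two_of]; field_simp; ring⟩

section conf

variable {F : FusionSystem S} {K : Type} [Field K] [Fintype K] {V T : Subgroup Ω} {x : Ω} {c : Conf F K V T x}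

/-- elements of `V` commuting with an element of `V' \ V` are in `V'` -/
theorem mem_V'_of_comm_one (k : Coord c) {g v : Ω} (hg : g ∈ cj x V) (hgV : g ∉ V) (hv : v ∈ V)
    (h : v * g = g * v) : v ∈ cj x V := by
  obtain ⟨e, heA, heE, he⟩ := exists_E c hg
  obtain ⟨h00, h10⟩ := (k.mem_A ⟨e, heE⟩).1 heA
  have h01 : (k.ρ ⟨e, heE⟩ : Matrix (Fin 2) (Fin 2) K) 0 1 ≠ 0 := by
    intro h01
    apply hgV
    have h1 := sl_upper_eq_one h00 h10 h01
    have h2 : (⟨e, heE⟩ : c.E) = 1 := k.ρ.injective (h1.trans (map_one k.ρ).symm)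
    have h3 : e = 1 := congrArg Subtype.val h2
    apply mem_V_of_comm c (T_le_S c (V'_le_T c hg))
    intro w hw
    have h4 := he ⟨w, hw⟩
    rw [h3] at h4
    have h5 : w = g * w * g⁻¹ := h4
    calc w * g = g * w * g⁻¹ * g := by rw [← h5]
      _ = g * w := by group
  have h1 : e ⟨v, hv⟩ = ⟨v, hv⟩ := by
    apply Subtype.ext
    rw [he]
    show g * v * g⁻¹ = v
    rw [← h]
    group
  have h2 := k.ψ_eq ⟨e, heE⟩ ⟨v, hv⟩
  have h2' : ((⟨e, heE⟩ : c.E) : MulAut V) ⟨v, hv⟩ = ⟨v, hv⟩ := h1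
  rw [h2'] at h2
  have h3 := congrFun h2 0
  simp only [Matrix.mulVec, dotProduct, Fin.sum_univ_two, h00, one_mul] at h3
  have h4 : (k.ρ ⟨e, heE⟩ : Matrix (Fin 2) (Fin 2) K) 0 1 * Multiplicative.toAdd (k.ψ ⟨v, hv⟩) 1 = 0 := by
    have h5 : Multiplicative.toAdd (k.ψ ⟨v, hv⟩) 0 + 0 = Multiplicative.toAdd (k.ψ ⟨v, hv⟩) 0 +
      (k.ρ ⟨e, heE⟩ : Matrix (Fin 2) (Fin 2) K) 0 1 * Multiplicative.toAdd (k.ψ ⟨v, hv⟩) 1 := by
      rw [add_zero]; exact h3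
    exact (add_left_cancel h5).symm
  exact (k.mem_V' ⟨v, hv⟩).2 ((mul_eq_zero.1 h4).resolve_left h01)

/-- a torus element of `E` together with its extension to `V V'` -/
structure Hat (k : Coord c) (t : K) where
  e : c.E
  χ : ↥(V ⊔ cj x V) →* Ω
  mem : χ ∈ F.Hom (V ⊔ cj x V)
  eq_e : ∀ v : V, χ (Subgroup.inclusion le_sup_left v) = (((e : MulAut V) v : V) : Ω)
  V' : ∀ (g : Ω) (hg : g ∈ cj x V), χ ⟨g, (le_sup_right : cj x V ≤ V ⊔ cj x V) hg⟩ ∈ cj x V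
  c0 : ∀ v : V, Multiplicative.toAdd (k.ψ ((e : MulAut V) v)) 0 = t * Multiplicative.toAdd (k.ψ v) 0
  c1 : ∀ v : V, Multiplicative.toAdd (k.ψ ((e : MulAut V) v)) 1 = t⁻¹ * Multiplicative.toAdd (k.ψ v) 1

theorem exists_hat [Finite S] (hS : IsPGroup 2 S) (hF : F.IsSaturated 2) (k : Coord c) (t : K) (ht : t ≠ 0) :
    Nonempty (Hat k t) := by
  have h2p : Fact (Nat.Prime 2) := ⟨Nat.prime_two⟩
  have hfinV := finite_V c
  set e : c.E := k.ρ.symm (dg t ht) with he_def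
  have hρe : k.ρ e = dg t ht := by rw [he_def, MulEquiv.apply_symm_apply]
  have hc0 : ∀ v : V, Multiplicative.toAdd (k.ψ ((e : MulAut V) v)) 0 = t * Multiplicative.toAdd (k.ψ v) 0 := by
    intro v
    rw [k.ψ_eq e v, hρe]
    simp [dg, Matrix.mulVec, dotProduct, Fin.sum_univ_two]
  have hc1 : ∀ v : V, Multiplicative.toAdd (k.ψ ((e : MulAut V) v)) 1 = t⁻¹ * Multiplicative.toAdd (k.ψ v) 1 := by
    intro v
    rw [k.ψ_eq e v, hρe]
    simp [dg, Matrix.mulVec, dotProduct, Fin.sum_univ_two]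
  set φ : V →* Ω := V.subtype.comp (e : MulAut V).toMonoidHom with hφ_def
  have hφe : ∀ v : V, φ v = (((e : MulAut V) v : V) : Ω) := fun _ => rfl
  have hφ : φ ∈ F.Hom V := (mem_autGroup_iff F c.V_le _).1 (c.E_le e.2)
  have hφr : φ.range = V := by
    apply range_eq_of_mapsTo hφ
    intro v
    exact (((e : MulAut V) v)).2
  have hrec : F.IsReceptive V := isReceptive_of_isFullyNormalized hS hF c.fn
  obtain ⟨ψ₀, hψ₀, hψ₀e⟩ := hrec.2 V φ hφ hφr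
  -- conjugation by elements of `V'`
  have hconj : ∀ g ∈ cj x V, ∃ g' ∈ cj x V, ∀ (w : V) (hw : g * (w : Ω) * g⁻¹ ∈ V),
      φ ⟨g * w * g⁻¹, hw⟩ = g' * φ w * g'⁻¹ := by
    intro g hg
    obtain ⟨a, haA, haE, ha⟩ := exists_E c hg
    obtain ⟨h00, h10⟩ := (k.mem_A ⟨a, haE⟩).1 haA
    have h1 : ((e * ⟨a, haE⟩ * e⁻¹ : c.E) : MulAut V) ∈ autInducedBy (cj x V) V := by
      rw [k.mem_A, map_mul, map_mul, map_inv, hρe]
      have hmat : ((dg t ht * k.ρ ⟨a, haE⟩ * (dg t ht)⁻¹ : Matrix.SpecialLinearGroup (Fin 2) K) :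
          Matrix (Fin 2) (Fin 2) K) =
          !![t, 0; 0, t⁻¹] * (k.ρ ⟨a, haE⟩ : Matrix (Fin 2) (Fin 2) K) * !![t⁻¹, 0; 0, t] := by
        rw [Matrix.SpecialLinearGroup.coe_mul, Matrix.SpecialLinearGroup.coe_mul,
          Matrix.SpecialLinearGroup.coe_inv]
        congr 1
        show Matrix.adjugate !![t, 0; 0, t⁻¹] = _
        rw [Matrix.adjugate_fin_two_of]
        simp
      rw [hmat]
      simp [Matrix.mul_apply, Matrix.vecMul, dotProduct, Fin.sum_univ_two, h00, h10, ht]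
    obtain ⟨g', hg', h2⟩ := (mem_autInducedBy_iff _ _ _).1 h1
    refine ⟨g', hg', fun w hw => ?_⟩
    have h3 : a w = ⟨g * w * g⁻¹, hw⟩ := Subtype.ext (ha w)
    rw [← h3, hφe, hφe]
    have h4 := h2 ((e : MulAut V) w)
    rw [← h4]
    show _ = ((((e : MulAut V) * a * (e : MulAut V)⁻¹) ((e : MulAut V) w) : V) : Ω)
    rw [MulAut.mul_apply, MulAut.mul_apply, MulAut.inv_apply_self]
  have hVext : V ≤ extender S V φ := le_extender c.V_le (fun v => c.V_le ((((e : MulAut V) v)).2))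
  have hV'ext : cj x V ≤ extender S V φ := by
    intro g hg
    rw [mem_extender_iff]
    refine ⟨T_le_S c (V'_le_T c hg), T_le_N c (V'_le_T c hg), ?_⟩
    obtain ⟨g', hg', h1⟩ := hconj g hg
    exact ⟨g', T_le_S c (V'_le_T c hg'), h1⟩
  have hle : V ⊔ cj x V ≤ extender S V φ := sup_le hVext hV'ext
  set χ : ↥(V ⊔ cj x V) →* Ω := ψ₀.comp (Subgroup.inclusion hle) with hχ_def
  have hχ : χ ∈ F.Hom (V ⊔ cj x V) := restrict_mem hψ₀ hle
  have hχe : ∀ v : V, χ (Subgroup.inclusion le_sup_left v) = (((e : MulAut V) v : V) : Ω) := by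
    intro v
    rw [← hφe]
    exact hψ₀e v v.2 (hVext v.2)
  refine ⟨⟨e, χ, hχ, hχe, ?_, hc0, hc1⟩⟩
  intro g hg
  by_cases hgV : g ∈ V
  · -- `g ∈ Z`
    have h1 := hχe ⟨g, hgV⟩
    have h2 : (Subgroup.inclusion (le_sup_left : V ≤ V ⊔ cj x V) ⟨g, hgV⟩ : ↥(V ⊔ cj x V)) =
      ⟨g, (le_sup_right : cj x V ≤ V ⊔ cj x V) hg⟩ := rfl
    rw [h2] at h1
    rw [h1, k.mem_V', hc1, (k.mem_V' ⟨g, hgV⟩).1 hg, mul_zero]
  · obtain ⟨g', hg', h1⟩ := hconj g hg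
    set y := χ ⟨g, (le_sup_right : cj x V ≤ V ⊔ cj x V) hg⟩ with hy_def
    have hyS : y ∈ S := hom_apply_mem hχ _
    -- `y` acts as `g'` on `V`
    have hact : ∀ w ∈ V, y * w * y⁻¹ = g' * w * g'⁻¹ := by
      intro w hw
      obtain ⟨w₀, hw₀⟩ : ∃ w₀ : V, (e : MulAut V) w₀ = ⟨w, hw⟩ := (e : MulAut V).surjective _
      have hgw : g * (w₀ : Ω) * g⁻¹ ∈ V := conj_V c (V'_le_T c hg) w₀.2
      have h2 := h1 w₀ hgw
      have h3 : φ w₀ = w := by rw [hφe, hw₀]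
      rw [h3] at h2
      rw [← h2]
      have h4 := hχe w₀
      rw [hw₀] at h4
      have h4' : χ (Subgroup.inclusion le_sup_left w₀) = w := h4
      have h5 := hχe ⟨g * w₀ * g⁻¹, hgw⟩
      rw [← hφe] at h5
      rw [← h5]
      have h6 : (Subgroup.inclusion (le_sup_left : V ≤ V ⊔ cj x V) ⟨g * w₀ * g⁻¹, hgw⟩ : ↥(V ⊔ cj x V)) =
        ⟨g, (le_sup_right : cj x V ≤ V ⊔ cj x V) hg⟩ * Subgroup.inclusion le_sup_left w₀ *
          ⟨g, (le_sup_right : cj x V ≤ V ⊔ cj x V) hg⟩⁻¹ := rfl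
      rw [h6, map_mul, map_mul, map_inv, h4']
    -- so `y = g' w`
    have hw : g'⁻¹ * y ∈ V := by
      apply mem_V_of_comm c (S.mul_mem (S.inv_mem (T_le_S c (V'_le_T c hg'))) hyS)
      intro v hv
      have h2 := hact v hv
      calc v * (g'⁻¹ * y) = g'⁻¹ * (g' * v * g'⁻¹) * y := by group
        _ = g'⁻¹ * (y * v * y⁻¹) * y := by rw [h2]
        _ = g'⁻¹ * y * v := by group
    have hy2 : y * y = 1 := by
      rw [hy_def, ← map_mul]
      have h3 : (⟨g, (le_sup_right : cj x V ≤ V ⊔ cj x V) hg⟩ : ↥(V ⊔ cj x V)) *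
        ⟨g, (le_sup_right : cj x V ≤ V ⊔ cj x V) hg⟩ = 1 := by
        apply Subtype.ext
        show g * g = 1
        rw [← pow_two]
        exact sq_V' c hg
      rw [h3, map_one]
    -- `g' ∉ V`
    have hg'V : g' ∉ V := by
      intro hg'V
      apply hgV
      apply mem_V_of_comm c (T_le_S c (V'_le_T c hg))
      intro v hv
      have hgw : g * v * g⁻¹ ∈ V := conj_V c (V'_le_T c hg) hv
      have h2 := h1 ⟨v, hv⟩ hgw
      have h3 : g' * φ ⟨v, hv⟩ * g'⁻¹ = φ ⟨v, hv⟩ := by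
        rw [comm_V c hg'V (show φ ⟨v, hv⟩ ∈ V from ((e : MulAut V) ⟨v, hv⟩).2)]
        group
      rw [h3] at h2
      have h4 := F.injective_of_mem hφ h2
      have h5 : g * v * g⁻¹ = v := congrArg Subtype.val h4
      calc v * g = g * v * g⁻¹ * g := by rw [h5]
        _ = g * v := by group
    set w := g'⁻¹ * y with hw_def
    have hyw : y = g' * w := by rw [hw_def]; group
    have hg'2 : g' * g' = 1 := by rw [← pow_two]; exact sq_V' c hg'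
    have hw2 : w * w = 1 := by rw [← pow_two]; exact c.el w hw
    have hcomm : g' * w = w * g' := by
      apply comm_of_sq
      · rw [pow_two, hg'2]
      · rw [pow_two, hw2]
      · rw [pow_two, ← hyw, hy2]
    have hwV' : w ∈ cj x V := mem_V'_of_comm_one k hg' hg'V hw hcomm.symm
    rw [hyw]
    exact (cj x V).mul_mem hg' hwV'

/-- Invariance of `N^x` -/
theorem Hat.inv [Finite S] {k : Coord c} {t : K} (h : Hat k t) {N : Subgroup Ω} (hNV : N ≤ V)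
    (hN : ∀ α ∈ F.autGroup V, ∀ (v : Ω) (hv : v ∈ N), ((α ⟨v, hNV hv⟩ : V) : Ω) ∈ N)
    {g : Ω} (hg : g ∈ cj x N) (hgV : g ∈ V) : (((h.e : MulAut V) ⟨g, hgV⟩ : V) : Ω) ∈ cj x N := by
  have hfin := finite_V c
  have h1 : conjHom V x ∈ F.Hom V := F.conj_mem c.V_le c.x_mem
  have h1v : ∀ v : V, conjHom V x v = x * v * x⁻¹ := fun _ => rfl
  obtain ⟨χ₁, hχ₁, e₁⟩ := exists_comp h1 h.mem (fun v => (le_sup_right : cj x V ≤ V ⊔ cj x V) (conj_mem_cj v.2))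
  have h2 : ∀ v : V, χ₁ v ∈ cj x V := by
    intro v
    rw [e₁]
    exact h.V' _ (conj_mem_cj v.2)
  have hV'S : cj x V ≤ S := (V'_le_T c).trans (T_le_S c)
  have h3 : conjHom (cj x V) x⁻¹ ∈ F.Hom (cj x V) := F.conj_mem hV'S (S.inv_mem c.x_mem)
  obtain ⟨χ₂, hχ₂, e₂⟩ := exists_comp hχ₁ h3 h2
  have h4 : ∀ v : V, χ₂ v = x⁻¹ * χ₁ v * x := by
    intro v
    rw [e₂]
    show x⁻¹ * χ₁ v * x⁻¹⁻¹ = _
    rw [inv_inv]
  have h5 : χ₂.range = V := by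
    apply range_eq_of_mapsTo hχ₂
    intro v
    rw [h4]
    exact mem_cj.1 (h2 v)
  obtain ⟨α, hα, h6⟩ := exists_aut hχ₂ h5
  have h7 := hN α hα _ (mem_cj.1 hg)
  rw [h6, h4, e₁] at h7
  rw [mem_cj]
  have h8 : (⟨conjHom V x ⟨x⁻¹ * g * x, hNV (mem_cj.1 hg)⟩,
      (le_sup_right : cj x V ≤ V ⊔ cj x V) (conj_mem_cj (hNV (mem_cj.1 hg)))⟩ : ↥(V ⊔ cj x V)) =
      Subgroup.inclusion le_sup_left ⟨g, hgV⟩ := by
    apply Subtype.ext
    show x * (x⁻¹ * g * x) * x⁻¹ = g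
    group
  rw [h8, h.eq_e] at h7
  exact h7

/-- dichotomy -/
theorem dich (k : Coord c) (H : ∀ t : K, t ≠ 0 → Hat k t) {N : Subgroup Ω} (hNV : N ≤ V) (hNV' : N ≤ cj x V)
    (hN : ∀ (t : K) (ht : t ≠ 0) (v : Ω) (hv : v ∈ N), ((((H t ht).e : MulAut V) ⟨v, hNV hv⟩ : V) : Ω) ∈ N) :
    N ≤ fixS V c.E ∨ ∀ y : K, ∃ z : V, (z : Ω) ∈ N ∧ Multiplicative.toAdd (k.ψ z) 0 = y := by
  by_cases hcon : N ≤ fixS V c.E
  · exact Or.inl hcon
  · right
    obtain ⟨z, hz, hzD⟩ := SetLike.not_le_iff_exists.1 hcon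
    have h1 : Multiplicative.toAdd (k.ψ ⟨z, hNV hz⟩) 0 ≠ 0 := by
      intro h0
      apply hzD
      have h2 := (k.mem_V' ⟨z, hNV hz⟩).1 (hNV' hz)
      apply (k.ψ_ker ⟨z, hNV hz⟩).1
      have h3 : Multiplicative.toAdd (k.ψ ⟨z, hNV hz⟩) = 0 := by
        funext i
        fin_cases i
        · exact h0
        · exact h2
      exact h3
    intro y
    by_cases hy : y = 0
    · refine ⟨1, N.one_mem, ?_⟩
      rw [map_one, hy]
      rfl
    · have ht : y / Multiplicative.toAdd (k.ψ ⟨z, hNV hz⟩) 0 ≠ 0 := div_ne_zero hy h1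
      refine ⟨((H _ ht).e : MulAut V) ⟨z, hNV hz⟩, hN _ ht z hz, ?_⟩
      rw [(H _ ht).c0]
      exact div_mul_cancel₀ _ h1

end conf

end Cfsg.Agent.H55.HM
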