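import Cfsg.Agent.H55.HM.ConfTyp

/-!
# S5175, T9: `StTyp` (helper55), final part
-/

set_option autoImplicit false

namespace Cfsg.Agent.H55.HM

open Cfsg Cfsg.FusionSystem Cfsg.Agent.H756.HM Cfsg.Agent.H802
open Matrix

universe u

section conf

variable {Ω : Type*} [Group Ω] {S : Subgroup Ω}
variable {F : FusionSystem S} {K : Type} [Field K] [Fintype K] {V T : Subgroup Ω} {x : Ω}

theorem fixS_inv (c : Conf F K V T x) (hEn : ∀ a ∈ F.autGroup V, ∀ e ∈ c.E, a * e * a⁻¹ ∈ c.E) :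
    ∀ α ∈ F.autGroup V, ∀ (v : Ω) (hv : v ∈ fixS V c.E), ((α ⟨v, fixS_le V c.E hv⟩ : V) : Ω) ∈ fixS V c.E := by
  intro α hα v hv
  rw [mem_fixS (α _).2]
  intro e he
  have h1 := hEn α⁻¹ ((F.autGroup V).inv_mem hα) e he
  rw [inv_inv] at h1
  have h2 := (mem_fixS (fixS_le V c.E hv)).1 hv _ h1
  have h3 : α ((α⁻¹ * e * α) ⟨v, fixS_le V c.E hv⟩) = e (α ⟨v, fixS_le V c.E hv⟩) := by
    rw [MulAut.mul_apply, MulAut.mul_apply, MulAut.apply_inv_self]
  rw [h2] at h3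
  exact h3.symm

theorem comS_inv (c : Conf F K V T x) (hEn : ∀ a ∈ F.autGroup V, ∀ e ∈ c.E, a * e * a⁻¹ ∈ c.E) :
    ∀ α ∈ F.autGroup V, ∀ (v : Ω) (hv : v ∈ comS V c.E), ((α ⟨v, comS_le V c.E hv⟩ : V) : Ω) ∈ comS V c.E := by
  intro α hα v hv
  obtain ⟨w, hw, rfl⟩ := hv
  refine ⟨α w, ?_, rfl⟩
  have h1 : Subgroup.map α.toMonoidHom (Subgroup.closure {y : V | ∃ v : V, ∃ e ∈ c.E, y = v⁻¹ * e v}) ≤
      Subgroup.closure {y : V | ∃ v : V, ∃ e ∈ c.E, y = v⁻¹ * e v} := by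
    rw [MonoidHom.map_closure, Subgroup.closure_le]
    rintro _ ⟨_, ⟨v, e, he, rfl⟩, rfl⟩
    apply Subgroup.subset_closure
    refine ⟨α v, α * e * α⁻¹, hEn α hα e he, ?_⟩
    show α (v⁻¹ * e v) = _
    rw [MulAut.mul_apply, MulAut.mul_apply, MulAut.inv_apply_self, map_mul, map_inv]
  exact h1 ⟨w, hw, rfl⟩

theorem cj_mono (x : Ω) {A B : Subgroup Ω} (h : A ≤ B) : cj x A ≤ cj x B := Subgroup.map_mono h

theorem cj_eq_bot {x : Ω} {A : Subgroup Ω} (h : cj x A ≤ ⊥) : A = ⊥ := by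
  rw [eq_bot_iff]
  intro a ha
  have h1 : x * a * x⁻¹ ∈ (⊥ : Subgroup Ω) := h (conj_mem_cj ha)
  rw [Subgroup.mem_bot] at *
  have h2 : a = x⁻¹ * (x * a * x⁻¹) * x := by group
  rw [h2, h1]
  group

/-- every element of `V` is a product of an element of `[V,E]` and one of `C_V(E)` -/
theorem exists_comS_mul {c : Conf F K V T x} (k : Coord c) (v : V) :
    ∃ w : V, (w : Ω) ∈ comS V c.E ∧ ((w⁻¹ * v : V) : Ω) ∈ fixS V c.E := by
  -- first coordinate
  have h1 : ∀ b : K, ∃ w : V, (w : Ω) ∈ comS V c.E ∧ Multiplicative.toAdd (k.ψ w) = ![b, 0] := by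
    intro b
    obtain ⟨v₀, hv₀⟩ := k.ψ_surj (Multiplicative.ofAdd ![0, 1])
    have hdet : (!![1, b; 0, 1] : Matrix (Fin 2) (Fin 2) K).det = 1 := by
      rw [Matrix.det_fin_two_of]; ring
    set M : Matrix.SpecialLinearGroup (Fin 2) K := ⟨!![1, b; 0, 1], hdet⟩ with hM
    set e : c.E := k.ρ.symm M with he
    have hρ : k.ρ e = M := by rw [he, MulEquiv.apply_symm_apply]
    refine ⟨v₀⁻¹ * (e : MulAut V) v₀, mem_comS v₀ e.2, ?_⟩
    rw [map_mul, map_inv]
    show -Multiplicative.toAdd (k.ψ v₀) + Multiplicative.toAdd (k.ψ ((e : MulAut V) v₀)) = _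
    rw [k.ψ_eq, hρ, hv₀, hM]
    funext i
    fin_cases i
    · simp
    · simp
  have h2 : ∀ b : K, ∃ w : V, (w : Ω) ∈ comS V c.E ∧ Multiplicative.toAdd (k.ψ w) = ![0, b] := by
    intro b
    obtain ⟨v₀, hv₀⟩ := k.ψ_surj (Multiplicative.ofAdd ![1, 0])
    have hdet : (!![1, 0; b, 1] : Matrix (Fin 2) (Fin 2) K).det = 1 := by
      rw [Matrix.det_fin_two_of]; ring
    set M : Matrix.SpecialLinearGroup (Fin 2) K := ⟨!![1, 0; b, 1], hdet⟩ with hM
    set e : c.E := k.ρ.symm M with he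
    have hρ : k.ρ e = M := by rw [he, MulEquiv.apply_symm_apply]
    refine ⟨v₀⁻¹ * (e : MulAut V) v₀, mem_comS v₀ e.2, ?_⟩
    rw [map_mul, map_inv]
    show -Multiplicative.toAdd (k.ψ v₀) + Multiplicative.toAdd (k.ψ ((e : MulAut V) v₀)) = _
    rw [k.ψ_eq, hρ, hv₀, hM]
    funext i
    fin_cases i
    · simp
    · simp
  obtain ⟨w₁, hw₁, e₁⟩ := h1 (Multiplicative.toAdd (k.ψ v) 0)
  obtain ⟨w₂, hw₂, e₂⟩ := h2 (Multiplicative.toAdd (k.ψ v) 1)
  refine ⟨w₁ * w₂, (comS V c.E).mul_mem hw₁ hw₂, ?_⟩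
  apply (k.ψ_ker _).1
  rw [map_mul, map_inv, map_mul]
  show -(Multiplicative.toAdd (k.ψ w₁) + Multiplicative.toAdd (k.ψ w₂)) + Multiplicative.toAdd (k.ψ v) = (0 : Fin 2 → K)
  rw [e₁, e₂]
  funext i
  fin_cases i
  · simp
  · simp

theorem typ_aux [Finite S] (hS : IsPGroup 2 S) (hF : F.IsSaturated 2) (c : Conf F K V T x)
    (hq : 4 ≤ Fintype.card K) (hEn : ∀ a ∈ F.autGroup V, ∀ e ∈ c.E, a * e * a⁻¹ ∈ c.E) :
    fixS V c.E = ⊥ ∨ (Nat.card (fixS V c.E) = Fintype.card K ∧ comS V c.E = V) := by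
  have hfinV := finite_V c
  obtain ⟨k⟩ := exists_coord c
  have H : ∀ t : K, t ≠ 0 → Hat k t := fun t ht => Classical.choice (exists_hat hS hF k t ht)
  have hDV : fixS V c.E ≤ V := fixS_le V c.E
  have hDV' : fixS V c.E ≤ cj x V := (D_le c).trans inf_le_right
  have hDinv := fixS_inv c hEn
  have hWinv := comS_inv c hEn
  have hNV : cj x (fixS V c.E) ≤ V := by
    rintro _ ⟨d, hd, rfl⟩
    exact conj_V' c (hDV' hd)
  have hNV' : cj x (fixS V c.E) ≤ cj x V := cj_mono x hDV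
  have hDD := c.DD
  -- equality of coordinates
  have hcoord : ∀ z z' : V, (z : Ω) ∈ cj x V → (z' : Ω) ∈ cj x V →
      Multiplicative.toAdd (k.ψ z) 0 = Multiplicative.toAdd (k.ψ z') 0 → ((z * z'⁻¹ : V) : Ω) ∈ fixS V c.E := by
    intro z z' hz hz' h0
    apply (k.ψ_ker _).1
    rw [map_mul, map_inv]
    show Multiplicative.toAdd (k.ψ z) + -Multiplicative.toAdd (k.ψ z') = (0 : Fin 2 → K)
    have h1 := (k.mem_V' z).1 hz
    have h2 := (k.mem_V' z').1 hz'
    funext i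
    fin_cases i
    · show Multiplicative.toAdd (k.ψ z) 0 + -Multiplicative.toAdd (k.ψ z') 0 = 0
      rw [h0]
      ring
    · show Multiplicative.toAdd (k.ψ z) 1 + -Multiplicative.toAdd (k.ψ z') 1 = 0
      rw [h1, h2]
      ring
  rcases dich k H hNV hNV' (fun t ht v hv => (H t ht).inv hDV hDinv hv (hNV hv)) with h | hsurj
  · left
    apply cj_eq_bot (x := x)
    rw [← hDD]
    exact le_inf h le_rfl
  · right
    -- injectivity on `D^x`
    have hinj : ∀ z z' : V, (z : Ω) ∈ cj x (fixS V c.E) → (z' : Ω) ∈ cj x (fixS V c.E) →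
        Multiplicative.toAdd (k.ψ z) 0 = Multiplicative.toAdd (k.ψ z') 0 → z = z' := by
      intro z z' hz hz' h0
      have h1 := hcoord z z' (hNV' hz) (hNV' hz') h0
      have h2 : ((z * z'⁻¹ : V) : Ω) ∈ fixS V c.E ⊓ cj x (fixS V c.E) :=
        ⟨h1, (cj x (fixS V c.E)).mul_mem hz ((cj x (fixS V c.E)).inv_mem hz')⟩
      rw [hDD, Subgroup.mem_bot] at h2
      have h3 : z * z'⁻¹ = 1 := Subtype.ext h2
      exact mul_inv_eq_one.1 h3
    have hcardD : Nat.card (fixS V c.E) = Fintype.card K := by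
      rw [← card_cj x (fixS V c.E), ← Nat.card_eq_fintype_card]
      apply Nat.card_congr
      refine Equiv.ofBijective (fun z => Multiplicative.toAdd (k.ψ ⟨z, hNV z.2⟩) 0) ⟨?_, ?_⟩
      · intro z z' hzz
        have := hinj ⟨z, hNV z.2⟩ ⟨z', hNV z'.2⟩ z.2 z'.2 hzz
        exact Subtype.ext (congrArg (Subtype.val : V → Ω) this)
      · intro y
        obtain ⟨z, hz, hy⟩ := hsurj y
        exact ⟨⟨z, hz⟩, hy⟩
    refine ⟨hcardD, ?_⟩
    have hWV : comS V c.E ≤ V := comS_le V c.E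
    -- `Z = D D^x`
    have hZ : ∀ z : V, (z : Ω) ∈ cj x V → ∃ d : V, (d : Ω) ∈ cj x (fixS V c.E) ∧ ((z * d⁻¹ : V) : Ω) ∈ fixS V c.E := by
      intro z hz
      obtain ⟨d, hd, h1⟩ := hsurj (Multiplicative.toAdd (k.ψ z) 0)
      exact ⟨d, hd, hcoord z d hz (hNV' hd) h1.symm⟩
    -- invariance of `(W ∩ D)^x`
    have hWDV : comS V c.E ⊓ fixS V c.E ≤ V := inf_le_left.trans hWV
    have hWDinv : ∀ α ∈ F.autGroup V, ∀ (v : Ω) (hv : v ∈ comS V c.E ⊓ fixS V c.E),
        ((α ⟨v, hWDV hv⟩ : V) : Ω) ∈ comS V c.E ⊓ fixS V c.E := fun α hα v hv =>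
      ⟨hWinv α hα v hv.1, hDinv α hα v hv.2⟩
    have hN₁ : cj x (comS V c.E ⊓ fixS V c.E) ≤ cj x (fixS V c.E) := cj_mono x inf_le_right
    rcases dich k H (hN₁.trans hNV) (hN₁.trans hNV')
      (fun t ht v hv => (H t ht).inv hWDV hWDinv hv ((hN₁.trans hNV) hv)) with h | hsurj₁
    · exfalso
      have hWD : comS V c.E ⊓ fixS V c.E = ⊥ := by
        apply cj_eq_bot (x := x)
        rw [← hDD]
        exact le_inf h hN₁
      -- choose `t ≠ 0, 1`
      obtain ⟨t, ht0, ht1⟩ : ∃ t : K, t ≠ 0 ∧ t ≠ 1 := by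
        classical
        by_contra hcon
        push Not at hcon
        have h1 : (Finset.univ : Finset K) ⊆ {0, 1} := by
          intro t _
          by_cases ht : t = 0
          · simp [ht]
          · simp [hcon t ht]
        have h2 := Finset.card_le_card h1
        have h3 : ({0, 1} : Finset K).card ≤ 2 := Finset.card_le_two
        rw [Finset.card_univ] at h2
        omega
      set h := H t ht0 with hh_def
      -- `W ∩ V' ≤ D^x`
      have hN₂ : comS V c.E ⊓ cj x V ≤ cj x (fixS V c.E) := by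
        have he : ∀ w : V, (w : Ω) ∈ comS V c.E ⊓ cj x V →
            ((((h.e : MulAut V) w * w⁻¹ : V)) : Ω) ∈ comS V c.E ⊓ cj x V := by
          intro w hw
          have h1 : (((h.e : MulAut V) w : V) : Ω) ∈ comS V c.E := hWinv _ (c.E_le h.e.2) w hw.1
          have h2 : (((h.e : MulAut V) w : V) : Ω) ∈ cj x V := by
            rw [k.mem_V', h.c1, (k.mem_V' w).1 hw.2, mul_zero]
          exact ⟨(comS V c.E).mul_mem h1 ((comS V c.E).inv_mem hw.1),
            (cj x V).mul_mem h2 ((cj x V).inv_mem hw.2)⟩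
        let f : ↥(comS V c.E ⊓ cj x V) → ↥(comS V c.E ⊓ cj x V) := fun w =>
          ⟨((h.e : MulAut V) ⟨w, hWV w.2.1⟩ * (⟨w, hWV w.2.1⟩ : V)⁻¹ : V), he ⟨w, hWV w.2.1⟩ w.2⟩
        have hf : Function.Injective f := by
          intro w w' hww
          have h1 : (h.e : MulAut V) ⟨w, hWV w.2.1⟩ * (⟨w, hWV w.2.1⟩ : V)⁻¹ =
              (h.e : MulAut V) ⟨w', hWV w'.2.1⟩ * (⟨w', hWV w'.2.1⟩ : V)⁻¹ :=
            Subtype.ext (congrArg (Subtype.val : ↥(comS V c.E ⊓ cj x V) → Ω) hww)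
          set a : V := ⟨w, hWV w.2.1⟩ with ha
          set b : V := ⟨w', hWV w'.2.1⟩ with hb
          have h2 := congrArg (fun y => Multiplicative.toAdd (k.ψ y) 0) h1
          simp only [map_mul, map_inv] at h2
          have h3 : Multiplicative.toAdd (k.ψ ((h.e : MulAut V) a)) 0 + -Multiplicative.toAdd (k.ψ a) 0 =
            Multiplicative.toAdd (k.ψ ((h.e : MulAut V) b)) 0 + -Multiplicative.toAdd (k.ψ b) 0 := h2
          rw [h.c0, h.c0] at h3
          have h4 : (t - 1) * Multiplicative.toAdd (k.ψ a) 0 = (t - 1) * Multiplicative.toAdd (k.ψ b) 0 := by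
            linear_combination h3
          have h5 : Multiplicative.toAdd (k.ψ a) 0 = Multiplicative.toAdd (k.ψ b) 0 :=
            mul_left_cancel₀ (sub_ne_zero.2 ht1) h4
          have h6 := hcoord a b w.2.2 w'.2.2 h5
          have h7 : ((a * b⁻¹ : V) : Ω) ∈ comS V c.E ⊓ fixS V c.E :=
            ⟨(comS V c.E).mul_mem w.2.1 ((comS V c.E).inv_mem w'.2.1), h6⟩
          rw [hWD, Subgroup.mem_bot] at h7
          have h8 : a * b⁻¹ = 1 := Subtype.ext h7
          have h9 := mul_inv_eq_one.1 h8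
          exact Subtype.ext (congrArg (Subtype.val : V → Ω) h9)
        have hfin2 : Finite ↥(comS V c.E ⊓ cj x V) :=
          Finite.of_injective _ (Subgroup.inclusion_injective ((inf_le_left : comS V c.E ⊓ cj x V ≤ _).trans hWV))
        have hfs : Function.Surjective f := Finite.surjective_of_injective hf
        intro w₂ hw₂
        obtain ⟨w, hw⟩ := hfs ⟨w₂, hw₂⟩
        have hw' : (((h.e : MulAut V) ⟨w, hWV w.2.1⟩ * (⟨w, hWV w.2.1⟩ : V)⁻¹ : V) : Ω) = w₂ :=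
          congrArg Subtype.val hw
        rw [← hw']
        set a : V := ⟨w, hWV w.2.1⟩ with ha
        obtain ⟨d, hd, hzd⟩ := hZ a w.2.2
        -- `e (a d⁻¹) = a d⁻¹`
        have h1 : (h.e : MulAut V) (a * d⁻¹) = a * d⁻¹ := (mem_fixS (a * d⁻¹).2).1 hzd _ h.e.2
        rw [map_mul, map_inv] at h1
        have h2 : (h.e : MulAut V) a * a⁻¹ = (h.e : MulAut V) d * d⁻¹ := by
          have h3 : (h.e : MulAut V) a = a * d⁻¹ * (h.e : MulAut V) d := by
            rw [← h1]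
            group
          have hc1 : ∀ y z : V, y * z = z * y := fun y z => Subtype.ext (comm_V c y.2 z.2)
          rw [h3]
          calc a * d⁻¹ * (h.e : MulAut V) d * a⁻¹ = a⁻¹ * (a * d⁻¹ * (h.e : MulAut V) d) := hc1 _ _
            _ = d⁻¹ * (h.e : MulAut V) d := by group
            _ = (h.e : MulAut V) d * d⁻¹ := hc1 _ _
        rw [h2]
        have h3 : (((h.e : MulAut V) d : V) : Ω) ∈ cj x (fixS V c.E) := h.inv hDV hDinv hd d.2
        exact (cj x (fixS V c.E)).mul_mem h3 ((cj x (fixS V c.E)).inv_mem hd)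
      -- commutators
      have hcom : ∀ v ∈ V, ∀ g ∈ cj x V, v * g * v⁻¹ * g⁻¹ ∈ cj x (fixS V c.E) := by
        intro v hv g hg
        apply hN₂
        constructor
        · obtain ⟨e, -, heE, he⟩ := exists_E c hg
          have h1 := mem_comS (⟨v, hv⟩ : V)⁻¹ heE
          rw [inv_inv] at h1
          have h2 : (((⟨v, hv⟩ : V) * e (⟨v, hv⟩ : V)⁻¹ : V) : Ω) = v * g * v⁻¹ * g⁻¹ := by
            show v * ((e (⟨v, hv⟩ : V)⁻¹ : V) : Ω) = _
            rw [he]
            show v * (g * v⁻¹ * g⁻¹) = _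
            group
          rw [h2] at h1
          exact h1
        · exact (cj x V).mul_mem (conj_V'_T c (V_le_T c hv) hg) ((cj x V).inv_mem hg)
      have hcom2 : ∀ v ∈ V, ∀ g ∈ cj x V, v * g * v⁻¹ * g⁻¹ ∈ fixS V c.E := by
        intro v hv g hg
        have h1 := hcom _ (mem_cj.1 hg) _ (conj_inv_mem_V' c hv)
        have h2 := mem_cj.1 h1
        have h3 := (fixS V c.E).inv_mem h2
        have h4 : (x⁻¹ * (x⁻¹ * g * x * (x⁻¹ * v * x) * (x⁻¹ * g * x)⁻¹ * (x⁻¹ * v * x)⁻¹) * x)⁻¹ =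
          (x ^ 2)⁻¹ * (v * g * v⁻¹ * g⁻¹) * x ^ 2 := by
          simp only [pow_two, _root_.mul_inv_rev, inv_inv, mul_assoc, mul_inv_cancel_left]
        rw [h4] at h3
        obtain ⟨α, hα⟩ := exists_conjAut (T_le_N c c.x_sq)
        have h5 : α ∈ F.autGroup V := autInducedBy_le_autGroup F c.V_le
          ((mem_autInducedBy_iff _ _ _).2 ⟨x ^ 2, T_le_S c c.x_sq, hα⟩)
        have h6 := hDinv α h5 _ h3
        rw [hα] at h6
        have h7 : x ^ 2 * ((⟨(x ^ 2)⁻¹ * (v * g * v⁻¹ * g⁻¹) * x ^ 2, hDV h3⟩ : V) : Ω) * (x ^ 2)⁻¹ =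
            v * g * v⁻¹ * g⁻¹ := by
          show x ^ 2 * ((x ^ 2)⁻¹ * (v * g * v⁻¹ * g⁻¹) * x ^ 2) * (x ^ 2)⁻¹ = _
          group
        rw [h7] at h6
        exact h6
      have hV'V : cj x V ≤ V := by
        intro g hg
        apply mem_V_of_comm c (T_le_S c (V'_le_T c hg))
        intro v hv
        have h1 : v * g * v⁻¹ * g⁻¹ ∈ fixS V c.E ⊓ cj x (fixS V c.E) := ⟨hcom2 v hv g hg, hcom v hv g hg⟩
        rw [hDD, Subgroup.mem_bot] at h1
        calc v * g = (v * g * v⁻¹ * g⁻¹) * (g * v) := by group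
          _ = g * v := by rw [h1, one_mul]
      have h1 := card_V' c
      rw [inf_eq_right.2 hV'V, card_cj] at h1
      have h2 : 0 < Nat.card V := Nat.card_pos
      have h3 : Fintype.card K = 1 := by
        have h4 : Fintype.card K * Nat.card V = 1 * Nat.card V := by rw [h1, one_mul]
        exact Nat.eq_of_mul_eq_mul_right h2 h4
      omega
    · -- `D ≤ W`
      have hDW : fixS V c.E ≤ comS V c.E := by
        intro d hd
        have h1 : x * d * x⁻¹ ∈ cj x (fixS V c.E) := conj_mem_cj hd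
        obtain ⟨z, hz, hz1⟩ := hsurj₁ (Multiplicative.toAdd (k.ψ ⟨x * d * x⁻¹, hNV h1⟩) 0)
        have h2 := hinj z ⟨x * d * x⁻¹, hNV h1⟩ (hN₁ hz) h1 hz1
        have h3 : (z : Ω) = x * d * x⁻¹ := congrArg Subtype.val h2
        rw [h3] at hz
        have h4 := mem_cj.1 hz
        have h5 : x⁻¹ * (x * d * x⁻¹) * x = d := by group
        rw [h5] at h4
        exact h4.1
      apply le_antisymm hWV
      intro v hv
      obtain ⟨w, hw, hwv⟩ := exists_comS_mul k ⟨v, hv⟩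
      have h1 : v = w * ((w⁻¹ * ⟨v, hv⟩ : V) : Ω) := by
        show v = (w : Ω) * ((w : Ω)⁻¹ * v)
        group
      rw [h1]
      exact (comS V c.E).mul_mem hw (hDW hwv)

end conf

/-- **T9.** -/
theorem stTyp : StTyp.{u} := by
  intro Ω _ S _ hS F hF K _ _ V T x c hq hEn
  exact typ_aux hS hF c hq hEn

end Cfsg.Agent.H55.HM
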